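import Mathlib.RingTheory.Flat.Basic
import Mathlib.RingTheory.Flat.Tensor
import Mathlib.Algebra.Module.Torsion.Basic
import Mathlib.RingTheory.Ideal.Quotient.Basic

/-! Flatness of a base change `S ⊗[R] M`, tested by tensor products over `R`. -/

set_option autoImplicit false
universe u
open TensorProduct

namespace FlatBCLib

variable {R : Type u} [CommRing R] {M : Type u} [AddCommGroup M] [Module R M]

/-- If `S ⊗ M` is flat over `S`, tensoring with `M` over `R` preserves injective `S`-linear maps. -/
theorem rTensor_injective {S : Type u} [CommRing S] [Algebra R S] [Module.Flat S (S ⊗[R] M)]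
    {X Y : Type u} [AddCommGroup X] [AddCommGroup Y] [Module R X] [Module R Y] [Module S X] [Module S Y]
    [IsScalarTower R S X] [IsScalarTower R S Y] (f : X →ₗ[S] Y) (hf : Function.Injective f) :
    Function.Injective (LinearMap.rTensor M (f.restrictScalars R)) := by
  let e₁ := AlgebraTensorModule.cancelBaseChange R S S X M
  let e₂ := AlgebraTensorModule.cancelBaseChange R S S Y M
  have hcomm : ∀ z, LinearMap.rTensor M (f.restrictScalars R) z =
      e₂ (LinearMap.rTensor (S ⊗[R] M) f (e₁.symm z)) := by
    intro z
    induction z using TensorProduct.induction_on with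
    | zero => simp
    | tmul x y => simp [e₁, e₂]
    | add x y hx hy => simp only [map_add, hx, hy]
  intro z w hzw
  rw [hcomm, hcomm] at hzw
  exact e₁.symm.injective (Module.Flat.rTensor_preserves_injective_linearMap _ hf (e₂.injective hzw))

/-- Conversely, injectivity over `R` for all ideals of `S` gives flatness of `S ⊗ M` over `S`. -/
theorem flat_of_rTensor_injective {S : Type u} [CommRing S] [Algebra R S]
    (h : ∀ b : Ideal S, Function.Injective (LinearMap.rTensor M ((b.subtype).restrictScalars R))) :
    Module.Flat S (S ⊗[R] M) := by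
  refine Module.Flat.iff_rTensor_injective'.mpr fun b => ?_
  let e₁ := AlgebraTensorModule.cancelBaseChange R S S b M
  let e₂ := AlgebraTensorModule.cancelBaseChange R S S S M
  have hcomm : ∀ z, e₂ (LinearMap.rTensor (S ⊗[R] M) b.subtype z) =
      LinearMap.rTensor M ((b.subtype).restrictScalars R) (e₁ z) := by
    intro z
    induction z using TensorProduct.induction_on with
    | zero => simp
    | add x y hx hy => simp only [map_add, hx, hy]
    | tmul x w =>
      induction w using TensorProduct.induction_on with
      | zero => simp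
      | add p q hp hq => simp only [TensorProduct.tmul_add, map_add, hp, hq]
      | tmul s m => simp [e₁, e₂]
  intro z w hzw
  exact e₁.injective (h b (by rw [← hcomm, ← hcomm, hzw]))

/-- If `M/IM` is flat over `R/I`, tensoring with `M` preserves injective maps of modules killed by `I`. -/
theorem rTensor_injective_of_smul_eq_zero {I : Ideal R} [Module.Flat (R ⧸ I) ((R ⧸ I) ⊗[R] M)]
    {X Y : Type u} [AddCommGroup X] [AddCommGroup Y] [Module R X] [Module R Y]
    (hX : ∀ r ∈ I, ∀ x : X, r • x = 0) (hY : ∀ r ∈ I, ∀ y : Y, r • y = 0)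
    (f : X →ₗ[R] Y) (hf : Function.Injective f) : Function.Injective (LinearMap.rTensor M f) := by
  have hX' : Module.IsTorsionBySet R X (I : Set R) := fun {x} r => hX r.1 r.2 x
  have hY' : Module.IsTorsionBySet R Y (I : Set R) := fun {y} r => hY r.1 r.2 y
  letI := hX'.module
  letI := hY'.module
  haveI : IsScalarTower R (R ⧸ I) X := hX'.isScalarTower
  haveI : IsScalarTower R (R ⧸ I) Y := hY'.isScalarTower
  let g : X →ₗ[R ⧸ I] Y :=
    { f with
      map_smul' := fun c x => by
        obtain ⟨c, rfl⟩ := Ideal.Quotient.mk_surjective c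
        exact f.map_smul c x }
  exact rTensor_injective (R := R) (S := R ⧸ I) g hf

/-- Dévissage in two steps. -/
theorem rTensor_injective_of_two_step {I : Ideal R} [Module.Flat (R ⧸ I) ((R ⧸ I) ⊗[R] M)]
    {A : Type u} [AddCommGroup A] [Module R A] (N : Submodule R A) (hN : ∀ r ∈ I, ∀ x ∈ N, r • x = (0 : A))
    (hA : ∀ r ∈ I, ∀ a : A, r • a ∈ N) (h1 : Function.Injective (LinearMap.rTensor M N.subtype))
    (b : Submodule R A) : Function.Injective (LinearMap.rTensor M b.subtype) := by
  let q : b →ₗ[R] A ⧸ N := N.mkQ.comp b.subtype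
  let Q : Submodule R (A ⧸ N) := LinearMap.range q
  have hkill : ∀ r ∈ I, ∀ y : A ⧸ N, r • y = 0 := by
    intro r hr y
    obtain ⟨a, rfl⟩ := N.mkQ_surjective y
    rw [← map_smul]
    exact (Submodule.Quotient.mk_eq_zero N).2 (hA r hr a)
  have hQinj := rTensor_injective_of_smul_eq_zero (M := M) (I := I)
    (fun r hr y => Subtype.ext (hkill r hr y.1)) hkill Q.subtype Q.injective_subtype
  let p : b →ₗ[R] Q := q.rangeRestrict
  let K := LinearMap.ker p
  have hK : ∀ x : K, ((x : b) : A) ∈ N := fun x => by
    have hx := congrArg Subtype.val (LinearMap.mem_ker.1 x.2)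
    exact (Submodule.Quotient.mk_eq_zero N).1 hx
  let j : K →ₗ[R] N := (b.subtype.comp K.subtype).codRestrict N hK
  have hj : Function.Injective j := fun x y h => Subtype.ext (Subtype.ext (show ((x : b) : A) = ((y : b) : A) from congrArg (fun z : N => (z : A)) h))
  have hKkill : ∀ r ∈ I, ∀ x : K, r • x = 0 := fun r hr x => Subtype.ext (Subtype.ext (hN r hr _ (hK x)))
  have hjinj := rTensor_injective_of_smul_eq_zero (M := M) (I := I) hKkill
    (fun r hr x => Subtype.ext (hN r hr _ x.2)) j hj
  rw [← LinearMap.ker_eq_bot, eq_bot_iff]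
  intro t ht
  rw [LinearMap.mem_ker] at ht
  have h0 : LinearMap.rTensor M p t = 0 := hQinj (by
    rw [map_zero, ← LinearMap.comp_apply, ← LinearMap.rTensor_comp,
      show Q.subtype.comp p = N.mkQ.comp b.subtype from LinearMap.ext fun _ => rfl,
      LinearMap.rTensor_comp, LinearMap.comp_apply, ht, map_zero])
  obtain ⟨u, rfl⟩ := (rTensor_exact M (LinearMap.exact_subtype_ker_map p) q.surjective_rangeRestrict t).1 h0
  have hu : u = 0 := hjinj (h1 (by
    rw [map_zero, map_zero, ← LinearMap.comp_apply, ← LinearMap.rTensor_comp,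
      show N.subtype.comp j = b.subtype.comp K.subtype from LinearMap.ext fun _ => rfl,
      LinearMap.rTensor_comp, LinearMap.comp_apply, ht]))
  rw [Submodule.mem_bot, hu, map_zero]

end FlatBCLib
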