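import Mathlib.RingTheory.Flat.Basic
import Mathlib.RingTheory.Flat.Tensor
import Mathlib.LinearAlgebra.TensorProduct.RightExactness
import Mathlib.LinearAlgebra.TensorProduct.Quotient

/-! Flatness in short exact sequences. -/

set_option autoImplicit false
universe u
open TensorProduct

namespace FlatBCLib

variable {R : Type u} [CommRing R] {M₁ M₂ M₃ : Type u} [AddCommGroup M₁] [Module R M₁] [AddCommGroup M₂]
  [Module R M₂] [AddCommGroup M₃] [Module R M₃] (f : M₁ →ₗ[R] M₂) (g : M₂ →ₗ[R] M₃)

theorem lTensor_injective_of_rTensor (hf : ∀ (Q : Type u) [AddCommGroup Q] [Module R Q], Function.Injective (f.rTensor Q))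
    (Q : Type u) [AddCommGroup Q] [Module R Q] : Function.Injective (f.lTensor Q) :=
  (LinearMap.lTensor_inj_iff_rTensor_inj Q f).2 (hf Q)

/-- A pure submodule of a flat module is flat. -/
theorem flat_of_pure_sub (hf : ∀ (Q : Type u) [AddCommGroup Q] [Module R Q], Function.Injective (f.rTensor Q))
    [Module.Flat R M₂] : Module.Flat R M₁ := by
  refine Module.Flat.iff_rTensor_injective'.2 fun I => ?_
  have h2 := Module.Flat.rTensor_preserves_injective_linearMap (M := M₂) I.subtype Subtype.val_injective
  intro z w h
  refine lTensor_injective_of_rTensor f hf I (h2 ?_)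
  rw [← LinearMap.comp_apply, ← LinearMap.comp_apply, LinearMap.rTensor_comp_lTensor,
    ← LinearMap.lTensor_comp_rTensor, LinearMap.comp_apply, LinearMap.comp_apply, h]

/-- The quotient of a flat module by a pure submodule is flat. -/
theorem flat_of_pure_quot (hf : ∀ (Q : Type u) [AddCommGroup Q] [Module R Q], Function.Injective (f.rTensor Q))
    (hex : Function.Exact f g) (hg : Function.Surjective g) [Module.Flat R M₂] : Module.Flat R M₃ := by
  refine Module.Flat.iff_rTensor_injective'.2 fun I => (injective_iff_map_eq_zero _).2 fun z hz => ?_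
  obtain ⟨w, rfl⟩ := LinearMap.lTensor_surjective I hg z
  have h0 : g.lTensor R (I.subtype.rTensor M₂ w) = 0 := by
    rw [← LinearMap.comp_apply, LinearMap.lTensor_comp_rTensor, ← LinearMap.rTensor_comp_lTensor,
      LinearMap.comp_apply]
    exact hz
  obtain ⟨x, hx⟩ := (lTensor_exact R hex hg _).1 h0
  have hexI := rTensor_exact M₁ (LinearMap.exact_subtype_mkQ (I : Submodule R R)) (Submodule.mkQ_surjective _)
  have h1 : (Submodule.mkQ (I : Submodule R R)).rTensor M₁ x = 0 := by
    refine lTensor_injective_of_rTensor f hf (R ⧸ I) ?_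
    rw [map_zero, ← LinearMap.comp_apply, LinearMap.lTensor_comp_rTensor, ← LinearMap.rTensor_comp_lTensor,
      LinearMap.comp_apply, hx, ← LinearMap.comp_apply, ← LinearMap.rTensor_comp,
      (LinearMap.exact_subtype_mkQ (I : Submodule R R)).linearMap_comp_eq_zero, LinearMap.rTensor_zero,
      LinearMap.zero_apply]
  obtain ⟨v, rfl⟩ := (hexI x).1 h1
  have hw : w = f.lTensor I v := by
    refine Module.Flat.rTensor_preserves_injective_linearMap (M := M₂) I.subtype Subtype.val_injective ?_
    rw [← hx, ← LinearMap.comp_apply, ← LinearMap.comp_apply, LinearMap.lTensor_comp_rTensor,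
      LinearMap.rTensor_comp_lTensor]
  rw [hw, ← LinearMap.comp_apply, ← LinearMap.lTensor_comp, hex.linearMap_comp_eq_zero, LinearMap.lTensor_zero,
    LinearMap.zero_apply]

/-- An extension of flat modules is flat. -/
theorem flat_of_ext (hf : Function.Injective f) (hex : Function.Exact f g) (hg : Function.Surjective g)
    [Module.Flat R M₁] [Module.Flat R M₃] : Module.Flat R M₂ := by
  refine Module.Flat.iff_rTensor_injective'.2 fun I => (injective_iff_map_eq_zero _).2 fun z hz => ?_
  have h0 : g.lTensor I z = 0 := by
    refine Module.Flat.rTensor_preserves_injective_linearMap (M := M₃) I.subtype Subtype.val_injective ?_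
    rw [map_zero, ← LinearMap.comp_apply, LinearMap.rTensor_comp_lTensor, ← LinearMap.lTensor_comp_rTensor,
      LinearMap.comp_apply, hz, map_zero]
  obtain ⟨v, rfl⟩ := (lTensor_exact I hex hg z).1 h0
  have h1 : I.subtype.rTensor M₁ v = 0 := by
    refine (injective_iff_map_eq_zero (f.lTensor R)).1 (Module.Flat.lTensor_preserves_injective_linearMap f hf) _ ?_
    rw [← LinearMap.comp_apply, LinearMap.lTensor_comp_rTensor, ← LinearMap.rTensor_comp_lTensor,
      LinearMap.comp_apply]
    exact hz
  have h2 : v = 0 := (injective_iff_map_eq_zero _).1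
    (Module.Flat.rTensor_preserves_injective_linearMap (M := M₁) I.subtype Subtype.val_injective) v h1
  rw [h2, map_zero]

end FlatBCLib
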